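import Mathlib
import Groth.Prelude.Def_MoreMor
import Groth.Agent.Lib.Helper6.ExtRigid.ER3

/-!
# Fibrewise connected components meeting the image of a universally open multisection (S15350)

For `f : X ⟶ S` smooth and quasi-separated, `g : S' ⟶ S` universally open and `e : S' ⟶ X`
over `S`, the union of the connected components of the fibres of `f` meeting `e(S')` is open:
it is the image of the section components of the base change `X ×_S S' ⟶ S'` along the
universally open projection to `X`.
-/

set_option autoImplicit false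
set_option linter.unusedSectionVars false
set_option linter.unusedVariables false
set_option linter.style.haveILetI false
set_option linter.unusedSimpArgs false
set_option maxHeartbeats 800000
set_option synthInstance.maxHeartbeats 400000

open CategoryTheory CategoryTheory.Limits AlgebraicGeometry

namespace Groth.Agent.Helper6.SecComp

universe u

open Groth.Agent.Helper7.GeomConn Groth.Agent.Helper6.ExtRigid

section Field

variable {k K : Type u} [Field k] [Field K]

/-- The image of a connected component under a base field extension is a connected component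
(general cartesian square). -/
theorem image_cc_of_isPullback (φ : CommRingCat.of k ⟶ CommRingCat.of K)
    {V W : Scheme.{u}} (b : V ⟶ Spec (.of k)) (a : W ⟶ Spec (.of K)) (t : W ⟶ V)
    (h : IsPullback t a b (Spec.map φ)) (w : W) :
    t '' connectedComponent w = connectedComponent (t w) := by
  letI : Algebra k K := φ.hom.toAlgebra
  have hφ : Spec.map φ = sE k K := rfl
  obtain ⟨e, he⟩ : ∃ e : W ≅ pullback b (Spec.map φ), e = h.isoPullback := ⟨_, rfl⟩
  have he1 : e.hom ≫ pullback.fst b (Spec.map φ) = t := by
    rw [he]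
    exact h.isoPullback_hom_fst
  have himg := image_connectedComponent (K := K) V b (e.hom w)
  have htw : ∀ z : W, pullback.fst b (sE k K) (e.hom z) = t z := by
    intro z
    show pullback.fst b (Spec.map φ) (e.hom z) = t z
    rw [← Scheme.Hom.comp_apply, he1]
  rw [htw] at himg
  have hid : ∀ z : W, e.inv (e.hom z) = z := fun z => by
    rw [← Scheme.Hom.comp_apply, e.hom_inv_id]
    rfl
  have hid' : ∀ y : ↥(pullback b (Spec.map φ)), e.hom (e.inv y) = y := fun y => by
    rw [← Scheme.Hom.comp_apply, e.inv_hom_id]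
    rfl
  have hcc : e.hom '' connectedComponent w = connectedComponent (e.hom w) := by
    apply Set.Subset.antisymm
    · exact e.hom.continuous.image_connectedComponent_subset w
    · intro y hy
      have h1 := e.inv.continuous.image_connectedComponent_subset (e.hom w) ⟨y, hy, rfl⟩
      rw [hid] at h1
      exact ⟨e.inv y, h1, hid' y⟩
  rw [← himg]
  have hcc' : connectedComponent (e.hom w) = e.hom '' connectedComponent w := hcc.symm
  rw [hcc', Set.image_image]
  apply Set.image_congr
  intro z _
  exact (htw z).symm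

end Field

theorem S15350_main {S S' X : Scheme.{u}} (f : X ⟶ S) [Smooth f] [QuasiSeparated f]
    (g : S' ⟶ S) [UniversallyOpen g] (e : S' ⟶ X) (he : e ≫ f = g) :
    ∃ U : X.Opens, ∀ s : S, (U : Set ↥X) ∩ f ⁻¹' {s} =
      ⋃ x ∈ Set.range e ∩ f ⁻¹' {s}, connectedComponentIn (f ⁻¹' {s}) x := by
  obtain ⟨f', hf'⟩ : ∃ f' : pullback f g ⟶ S', f' = pullback.snd f g := ⟨_, rfl⟩
  obtain ⟨g', hg'⟩ : ∃ g' : pullback f g ⟶ X, g' = pullback.fst f g := ⟨_, rfl⟩
  have hc : IsPullback g' f' f g := by
    rw [hf', hg']
    exact IsPullback.of_hasPullback f g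
  obtain ⟨σ, hσ1, hσ2⟩ : ∃ σ : S' ⟶ pullback f g, σ ≫ g' = e ∧ σ ≫ f' = 𝟙 S' := by
    refine ⟨pullback.lift e (𝟙 S') (by rw [he, Category.id_comp]), ?_, ?_⟩
    · rw [hg']
      exact pullback.lift_fst _ _ _
    · rw [hf']
      exact pullback.lift_snd _ _ _
  haveI : Smooth f' := by
    rw [hf']
    infer_instance
  haveI : QuasiSeparated f' := by
    rw [hf']
    infer_instance
  haveI : UniversallyOpen g' := by
    rw [hg']
    infer_instance
  have hopen := isOpen_sectionComponents_of_qs f' σ hσ2
  have hUo : IsOpen (g' '' MoreMor.sectionComponents f' σ) := g'.isOpenMap _ hopen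
  refine ⟨⟨_, hUo⟩, fun s => ?_⟩
  have hι : ∀ s' : S', fibreMap f f' g' g hc s' ≫ f.fiberι (g s') = f'.fiberι s' ≫ g' :=
    fun s' => fibreMap_fiberι f f' g' g hc s'
  have hιa : ∀ (s' : S') (w' : f'.fiber s'),
      f.fiberι (g s') (fibreMap f f' g' g hc s' w') = g' (f'.fiberι s' w') := by
    intro s' w'
    rw [← Scheme.Hom.comp_apply, hι, Scheme.Hom.comp_apply]
  have hpt : ∀ s' : S',
      f.fiberι (g s') (fibreMap f f' g' g hc s' (fibrePt f' σ hσ2 s')) = e s' := by
    intro s'
    rw [hιa, fiberι_fibrePt, ← Scheme.Hom.comp_apply, hσ1]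
  have hcc : ∀ s' : S', connectedComponentIn (f ⁻¹' {g s'}) (e s') =
      f.fiberι (g s') '' (fibreMap f f' g' g hc s' ''
        connectedComponent (fibrePt f' σ hσ2 s')) := by
    intro s'
    rw [← hpt s', connectedComponentIn_range_embedding (f.fiberι (g s')).isEmbedding _
      (f.range_fiberι (g s')),
      image_cc_of_isPullback (g.residueFieldMap s') _ _ _ (isPullback_fibreMap f f' g' g hc s')]
  ext x
  rw [Set.mem_iUnion₂]
  constructor
  · rintro ⟨⟨x', hx', rfl⟩, hxs⟩
    obtain ⟨s', w', hw'1, hw'2⟩ := exists_fiber_of_mem_sectionComponents f' σ hσ2 x' hx'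
    have hs : g s' = s := by
      have h1 : f (g' x') = s := hxs
      have h2 : f (g' x') = g (f' x') := by
        rw [← Scheme.Hom.comp_apply, hc.w, Scheme.Hom.comp_apply]
      have h3 : f' x' = s' := by
        rw [← hw'1]
        exact apply_fiberι f' s' w'
      rw [← h1, h2, h3]
    subst hs
    refine ⟨e s', ⟨⟨s', rfl⟩, ?_⟩, ?_⟩
    · show f (e s') = g s'
      rw [← Scheme.Hom.comp_apply, he]
    · rw [hcc s']
      refine ⟨fibreMap f f' g' g hc s' w', ⟨w', hw'2, rfl⟩, ?_⟩
      rw [hιa, hw'1]
  · rintro ⟨x₀, ⟨⟨s', rfl⟩, hx₀s⟩, hx⟩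
    have hs : g s' = s := by
      rw [← he]
      exact hx₀s
    subst hs
    rw [hcc s'] at hx
    obtain ⟨_, ⟨w', hw', rfl⟩, rfl⟩ := hx
    refine ⟨⟨f'.fiberι s' w', mem_sectionComponents_of_fiber f' σ hσ2 s' w' hw', ?_⟩, ?_⟩
    · exact (hιa s' w').symm
    · exact apply_fiberι f (g s') _

end Groth.Agent.Helper6.SecComp
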